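import Cfsg.Agent.Lib.GraphPSU.Faith
import Cfsg.Agent.Lib.AutPSL.TwistedGF
import Cfsg.Agent.Lib.AutPSL.GraphInv

/-!
# Involutory graph automorphisms of `PSU_n(q)`

* `Ctx` : the field of order `q²`, its involution `σ`, a field of order `q` inside it; `exists_ctx`
* `ugam B = conj B⁻¹ ∘ σ` on `PSU`; `isConjUnder_ugam_iff`, `orderOf_ugam_iff`, `graph_inv_exists`
-/

set_option autoImplicit false
set_option linter.unusedSectionVars false
set_option linter.style.haveILetI false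

open scoped MatrixGroups Matrix

namespace Cfsg.Agent.GraphPSU

open Cfsg.Agent.FieldAut (scal galGL suMat keep indAut conjAut mapGL)
open Cfsg.Agent.AutPSL (ctr)

variable {F : Type*} [Field F] [Fintype F] {F₀ : Type*} [Field F₀] [Fintype F₀] {m q : ℕ}

local notation "G2" => GL (Fin (m + 2)) F
local notation "M2" => Matrix (Fin (m + 2)) (Fin (m + 2)) F

/-- The data of the descent from `GF(q²)` to `GF(q)`. -/
structure Ctx (q : ℕ) (σ : F ≃+* F) (e : F₀ →+* F) : Prop where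
  card : Fintype.card F = q ^ 2
  card₀ : Fintype.card F₀ = q
  spow : ∀ x, σ x = x ^ q
  range : ∀ x, x ∈ Set.range e ↔ σ x = x

theorem exists_ctx (hF : Fintype.card F = q ^ 2) (hF₀ : Fintype.card F₀ = q) :
    ∃ (σ : F ≃+* F) (e : F₀ →+* F), Ctx q σ e := by
  haveI : Finite (F ≃+* F) := Finite.of_injective _ DFunLike.coe_injective
  let σ : F ≃+* F := RingEquiv.ofBijective (Unitary.conjHom hF)
    (Finite.injective_iff_bijective.1 (Unitary.conjHom hF).injective)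
  have hσ : ∀ x, σ x = x ^ q := fun x => rfl
  have hne : σ ≠ 1 := by
    intro h
    obtain ⟨d, hd0, hd⟩ := Unitary.exists_skew hF
    obtain ⟨t, ht⟩ := Unitary.exists_trace_eq hF (one_pow q : (1 : F) ^ q = 1)
    have h1 : ∀ x : F, x ^ q = x := fun x => by rw [← hσ, h]; rfl
    rw [h1] at hd ht
    exact hd0 (by linear_combination (-d) * ht + t * hd)
  have hord : orderOf σ = 2 := orderOf_eq_prime (by
    refine RingEquiv.ext fun x => ?_
    rw [pow_two, RingAut.mul_apply, hσ, hσ, Unitary.pow_q_pow_q hF]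
    rfl) hne
  obtain ⟨e, he⟩ := FieldAut.exists_embedding_fixed σ hord two_pos
    (Q := q) (by rw [Nat.card_eq_fintype_card, hF]) F₀ hF₀
  exact ⟨σ, e, ⟨hF, hF₀, hσ, he⟩⟩

variable {σ : F ≃+* F} {e : F₀ →+* F}

theorem Ctx.coe (C : Ctx q σ e) : (σ : F → F) = Unitary.conjHom C.card := funext C.spow

theorem Ctx.fix (C : Ctx q σ e) (x : F₀) : σ (e x) = e x := (C.range _).1 ⟨x, rfl⟩

theorem Ctx.invol (C : Ctx q σ e) (x : F) : σ (σ x) = x := by
  rw [C.spow, C.spow, Unitary.pow_q_pow_q C.card]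

theorem Ctx.ne_one (C : Ctx q σ e) : σ ≠ 1 := by
  intro h
  obtain ⟨d, hd0, hd⟩ := Unitary.exists_skew C.card
  obtain ⟨t, ht⟩ := Unitary.exists_trace_eq C.card (one_pow q : (1 : F) ^ q = 1)
  have h1 : ∀ x : F, x ^ q = x := fun x => by rw [← C.spow, h]; rfl
  rw [h1] at hd ht
  exact hd0 (by linear_combination (-d) * ht + t * hd)

theorem Ctx.ord (C : Ctx q σ e) : orderOf σ = 2 := by
  refine orderOf_eq_prime ?_ C.ne_one
  refine RingEquiv.ext fun x => ?_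
  rw [pow_two, RingAut.mul_apply, C.invol]
  rfl

theorem Ctx.mem_GU (C : Ctx q σ e) (g : G2) :
    g ∈ Cfsg.GU (m + 2) F q ↔ (g : M2)ᵀ * (g : M2).map σ = 1 := by
  rw [FieldAut.mem_GU_iff_matrix C.card, C.coe]

/-- On the unitary group `σ` is the inverse transpose. -/
theorem Ctx.gal_eq (C : Ctx q σ e) {g : G2} (hg : g ∈ Cfsg.GU (m + 2) F q) : galGL σ g = ctr g := by
  refine Units.ext ?_
  rw [FieldAut.galGL_apply_coe]
  have h := (C.mem_GU g).1 hg
  calc (g : M2).map σ = ((ctr g : G2) : M2) * (g : M2)ᵀ * (g : M2).map σ := by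
        rw [AutPSL.ctr_mul_transpose, one_mul]
    _ = _ := by rw [mul_assoc, h, mul_one]

/-- Conjugation by a unitary matrix, on `PSU`. -/
noncomputable def uconj : Cfsg.GU (m + 2) F q →* MulAut (Cfsg.PSU (m + 2) F q) :=
  conjAut FieldAut.suMat_injective _ fun _ => FieldAut.conj_mem_suMat

theorem inndiag_eq_range :
    Cfsg.inndiagPSU (m + 2) F q = (uconj : Cfsg.GU (m + 2) F q →* _).range :=
  FieldAut.inndiagPSU_eq

/-- The automorphism of `PSU` attached to a field automorphism. -/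
noncomputable def phiU (τ : F ≃+* F) : MulAut (Cfsg.PSU (m + 2) F q) :=
  indAut FieldAut.suMat_injective ⟨galGL τ, FieldAut.keep_gal_su τ⟩

/-- The graph automorphism attached to the unitary matrix `B`. -/
noncomputable def ugam (σ : F ≃+* F) (B : Cfsg.GU (m + 2) F q) : MulAut (Cfsg.PSU (m + 2) F q) :=
  uconj B⁻¹ * phiU σ

theorem isFieldAutOf_iff (τ : F ≃+* F) (β : MulAut (Cfsg.PSU (m + 2) F q)) :
    Cfsg.IsFieldAutPSUOf τ β ↔ β = phiU τ :=
  (FieldAut.isInd_fieldAut_psu τ β).trans (FieldAut.isInd_iff FieldAut.suMat_injective _)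

theorem isInnerDiag_iff (β : MulAut (Cfsg.PSU (m + 2) F q)) :
    Cfsg.IsInnerDiagonalAutPSU β ↔ ∃ g : Cfsg.GU (m + 2) F q, β = uconj g := by
  rw [FieldAut.isInd_innerDiag_psu]
  constructor
  · rintro ⟨g, hg, h⟩
    exact ⟨⟨g, hg⟩, (FieldAut.isInd_iff FieldAut.suMat_injective (FieldAut.conj_mem_suMat hg)).1 h⟩
  · rintro ⟨⟨g, hg⟩, h⟩
    exact ⟨g, hg, (FieldAut.isInd_iff FieldAut.suMat_injective (FieldAut.conj_mem_suMat hg)).2 h⟩

/-- `σ` on the unitary group. -/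
def galU (σ : F ≃+* F) (g : Cfsg.GU (m + 2) F q) : Cfsg.GU (m + 2) F q :=
  ⟨galGL σ g.1, FieldAut.galGL_GU σ g.2⟩

theorem phiU_uconj (τ : F ≃+* F) (g : Cfsg.GU (m + 2) F q) :
    phiU τ * uconj g = uconj (galU τ g) * phiU τ := by
  rw [uconj, FieldAut.conjAut_apply, FieldAut.conjAut_apply, phiU, ← map_mul, ← map_mul]
  congr 1
  exact Subtype.ext (MulEquiv.ext fun x => by simp [MulAut.mul_apply, MulAut.conj_apply, galU])

theorem phiU_mul (τ τ' : F ≃+* F) :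
    (phiU τ * phiU τ' : MulAut (Cfsg.PSU (m + 2) F q)) = phiU (τ * τ') := by
  rw [phiU, phiU, phiU, ← map_mul]
  exact congrArg _ (Subtype.ext (map_mul galGL τ τ').symm)

theorem phiU_one : (phiU 1 : MulAut (Cfsg.PSU (m + 2) F q)) = 1 := by
  rw [phiU, ← map_one (indAut (FieldAut.suMat_injective (n := m + 2) (F := F) (q := q)))]
  exact congrArg _ (Subtype.ext (map_one galGL))

theorem uconj_eq_one_iff (C : Ctx q σ e) (g : Cfsg.GU (m + 2) F q) :
    uconj g = 1 ↔ ∃ a : Fˣ, (g : G2) = scal a := by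
  rw [uconj, FieldAut.conjAut_apply,
    FieldAut.conjAut_eq_one_iff (FieldAut.suRigid C.card (by omega))]
  exact ⟨fun ⟨a, ha⟩ => ⟨a, ha.symm⟩, fun ⟨a, ha⟩ => ⟨a, ha.symm⟩⟩

theorem uconj_eq_iff (C : Ctx q σ e) (g h : Cfsg.GU (m + 2) F q) :
    uconj g = uconj h ↔ ∃ a : Fˣ, (g : G2) = scal a * (h : G2) := by
  rw [← mul_inv_eq_one, ← map_inv, ← map_mul, uconj_eq_one_iff C]
  exact exists_congr fun a => mul_inv_eq_iff_eq_mul

theorem faithful (C : Ctx q σ e) (hm : 1 ≤ m) {g : Cfsg.GU (m + 2) F q} {τ : F ≃+* F}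
    (h : uconj g * phiU τ = 1) : τ = 1 := by
  rw [uconj, FieldAut.conjAut_apply, phiU, ← map_mul] at h
  exact semi_eq_one C.card (by omega)
    (mul_mem (FieldAut.conj_mem_suMat g.2) (FieldAut.keep_gal_su τ)) h

theorem ugam_eq_iff (C : Ctx q σ e) (B B' : Cfsg.GU (m + 2) F q) :
    ugam σ B = ugam σ B' ↔ ∃ a : Fˣ, ((B' : G2) : M2) = (a : F) • ((B : G2) : M2) := by
  rw [ugam, ugam, mul_left_inj, uconj_eq_iff C]
  constructor
  · rintro ⟨a, ha⟩
    refine ⟨a, ?_⟩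
    have ha' : (B : G2)⁻¹ = scal a * (B' : G2)⁻¹ := ha
    have h : (B' : G2) = scal a * (B : G2) := by
      have h1 : scal a * (B' : G2)⁻¹ * (B' : G2) = (B : G2)⁻¹ * (B' : G2) := by rw [ha']
      rw [mul_assoc, inv_mul_cancel, mul_one] at h1
      rw [FieldAut.scal_comm, h1, mul_inv_cancel_left]
    rw [h, Units.val_mul, FieldAut.scal_coe, Matrix.smul_mul, one_mul]
  · rintro ⟨a, ha⟩
    refine ⟨a, ?_⟩
    have h : (B' : G2) = scal a * (B : G2) := Units.ext (by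
      rw [ha, Units.val_mul, FieldAut.scal_coe, Matrix.smul_mul, one_mul])
    show (B : G2)⁻¹ = scal a * (B' : G2)⁻¹
    rw [h, _root_.mul_inv_rev, ← mul_assoc, FieldAut.scal_comm, mul_assoc, mul_inv_cancel, mul_one]

theorem galU_coe (C : Ctx q σ e) (g : Cfsg.GU (m + 2) F q) : (galU σ g : G2) = ctr (g : G2) :=
  C.gal_eq g.2

theorem conj_ugam (k B : Cfsg.GU (m + 2) F q) :
    uconj k * ugam σ B * (uconj k)⁻¹ = ugam σ (galU σ k * B * k⁻¹) := by
  have hc : galU σ (k⁻¹) = (galU σ k)⁻¹ := Subtype.ext (map_inv (galGL σ) (k : G2))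
  rw [ugam, ugam, ← mul_assoc (uconj k), mul_assoc _ (phiU σ), ← map_inv, phiU_uconj, ← mul_assoc,
    ← map_mul, ← map_mul, hc, _root_.mul_inv_rev, _root_.mul_inv_rev, inv_inv, mul_assoc k]

theorem conj_coe (C : Ctx q σ e) (k B : Cfsg.GU (m + 2) F q) :
    (((galU σ k * B * k⁻¹ : Cfsg.GU (m + 2) F q) : G2) : M2) =
      (((k : G2)⁻¹ : G2) : M2)ᵀ * ((B : G2) : M2) * (((k : G2)⁻¹ : G2) : M2) := by
  show ((((galU σ k : Cfsg.GU (m + 2) F q) : G2) * (B : G2) * (k : G2)⁻¹ : G2) : M2) = _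
  rw [galU_coe C, Units.val_mul, Units.val_mul]
  rfl

theorem isConjUnder_ugam_iff (C : Ctx q σ e) (B B' : Cfsg.GU (m + 2) F q) :
    Cfsg.IsConjUnder (Cfsg.inndiagPSU (m + 2) F q) (ugam σ B) (ugam σ B') ↔
      ∃ (k : Cfsg.GU (m + 2) F q) (c : Fˣ), ((B' : G2) : M2) =
        (c : F) • (((k : G2) : M2)ᵀ * ((B : G2) : M2) * ((k : G2) : M2)) := by
  rw [Cfsg.IsConjUnder, inndiag_eq_range]
  constructor
  · rintro ⟨_, ⟨k, rfl⟩, h⟩
    rw [conj_ugam, eq_comm, ugam_eq_iff C] at h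
    obtain ⟨a, ha⟩ := h
    exact ⟨k⁻¹, a, by rw [ha, conj_coe C]; rfl⟩
  · rintro ⟨k, c, h⟩
    refine ⟨uconj k⁻¹, ⟨_, rfl⟩, ?_⟩
    rw [conj_ugam, eq_comm, ugam_eq_iff C]
    refine ⟨c, h.trans (congrArg _ ?_)⟩
    rw [conj_coe C, show (((k⁻¹ : Cfsg.GU (m + 2) F q) : G2))⁻¹ = (k : G2) from inv_inv (k : G2)]

theorem commute_ugam_iff (C : Ctx q σ e) (h B : Cfsg.GU (m + 2) F q) :
    Commute (uconj h) (ugam σ B) ↔
      (h : G2) ∈ AutPSL.simGrp ((B : G2) : M2) := by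
  have e' : Commute (uconj h) (ugam σ B) ↔ uconj h⁻¹ * ugam σ B * (uconj h⁻¹)⁻¹ = ugam σ B := by
    rw [map_inv, inv_inv, mul_assoc, inv_mul_eq_iff_eq_mul, eq_comm]
    exact Iff.rfl
  rw [e', conj_ugam, eq_comm, ugam_eq_iff C, AutPSL.mem_simGrp]
  refine exists_congr fun a => ?_
  rw [conj_coe C, show (((h⁻¹ : Cfsg.GU (m + 2) F q) : G2))⁻¹ = (h : G2) from inv_inv (h : G2)]

theorem orderOf_ugam_iff (C : Ctx q σ e) (hm : 1 ≤ m) (B : Cfsg.GU (m + 2) F q) :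
    orderOf (ugam σ B) = 2 ↔ ((B : G2) : M2)ᵀ = ((B : G2) : M2) ∨
      ((B : G2) : M2)ᵀ = -((B : G2) : M2) := by
  have hne : ugam σ B ≠ 1 := fun h => C.ne_one (faithful C hm h)
  rw [orderOf_eq_iff two_pos]
  have hσσ : σ * σ = 1 := RingEquiv.ext fun x => C.invol x
  have hsq : ugam σ B ^ 2 = uconj (B⁻¹ * galU σ B⁻¹) := by
    rw [ugam, pow_two, mul_assoc, ← mul_assoc (phiU σ) (uconj B⁻¹), phiU_uconj,
      mul_assoc (uconj (galU σ B⁻¹)), phiU_mul, hσσ, phiU_one, mul_one, map_mul]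
  have hctr : ((galU σ B⁻¹ : G2) : M2) = ((B : G2) : M2)ᵀ := by
    rw [galU_coe C]
    show ((((B : G2)⁻¹)⁻¹ : G2) : M2)ᵀ = _
    rw [inv_inv]
  have h1 : ugam σ B ^ 2 = 1 ↔ ∃ a : Fˣ, ((B : G2) : M2)ᵀ = (a : F) • ((B : G2) : M2) := by
    rw [hsq, uconj_eq_one_iff C]
    refine exists_congr fun a => ?_
    show (B : G2)⁻¹ * (galU σ B⁻¹ : G2) = scal a ↔ _
    rw [inv_mul_eq_iff_eq_mul, Units.ext_iff, hctr, Units.val_mul, FieldAut.scal_coe, Matrix.mul_smul, mul_one]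
  constructor
  · rintro ⟨h, -⟩
    obtain ⟨a, ha⟩ := h1.1 h
    have h2 := congrArg Matrix.transpose ha
    rw [Matrix.transpose_transpose, Matrix.transpose_smul, ha, smul_smul] at h2
    obtain ⟨i, j, hij⟩ : ∃ i j, ((B : G2) : M2) i j ≠ 0 := by
      by_contra! h0
      exact (B : G2).det_ne_zero (by
        rw [show ((B : G2) : M2) = 0 from Matrix.ext h0]; simp)
    have h3 := congrFun (congrFun h2 i) j
    rw [Matrix.smul_apply, smul_eq_mul] at h3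
    rcases mul_self_eq_one_iff.1 ((mul_eq_right₀ hij).1 h3.symm) with h4 | h4 <;> rw [h4] at ha
    · exact Or.inl (ha.trans (one_smul _ _))
    · exact Or.inr (ha.trans (neg_one_smul _ _))
  · intro h
    refine ⟨h1.2 ?_, fun k hk hk0 => ?_⟩
    · rcases h with h | h
      · exact ⟨1, by rw [h, Units.val_one, one_smul]⟩
      · exact ⟨-1, by rw [h, Units.val_neg, Units.val_one, neg_one_smul]⟩
    · obtain rfl : k = 1 := by omega
      rwa [pow_one]

theorem isGraph_ugam (C : Ctx q σ e) (hm : 1 ≤ m) (B : Cfsg.GU (m + 2) F q) :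
    Cfsg.IsGraphAutClassPSU (ugam σ B) :=
  ⟨by omega, uconj B⁻¹, phiU σ, σ, by rw [C.ord]; exact even_two, (isInnerDiag_iff _).2 ⟨_, rfl⟩,
    (isFieldAutOf_iff σ _).2 rfl, rfl⟩

theorem graph_inv_exists (C : Ctx q σ e) {γ : MulAut (Cfsg.PSU (m + 2) F q)}
    (hγ : Cfsg.IsGraphAutClassPSU γ) (h2 : orderOf γ = 2) :
    1 ≤ m ∧ ∃ B : Cfsg.GU (m + 2) F q, γ = ugam σ B ∧
      (((B : G2) : M2)ᵀ = ((B : G2) : M2) ∨ ((B : G2) : M2)ᵀ = -((B : G2) : M2)) := by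
  obtain ⟨hn, δ, φ, τ, hτ, hδ, hφ, rfl⟩ := hγ
  obtain ⟨g, rfl⟩ := (isInnerDiag_iff δ).1 hδ
  rw [(isFieldAutOf_iff τ φ).1 hφ] at h2 ⊢
  have hm : 1 ≤ m := by omega
  have hsq : uconj (g * galU τ g) * phiU (τ * τ) = 1 := by
    have h : (uconj g * phiU τ) ^ 2 = 1 := orderOf_dvd_iff_pow_eq_one.1 h2.dvd
    rwa [pow_two, mul_assoc, ← mul_assoc (phiU τ), phiU_uconj, mul_assoc (uconj (galU τ g)), phiU_mul,
      ← mul_assoc, ← map_mul] at h
  have hττ : τ ^ 2 = 1 := by rw [pow_two]; exact faithful C hm hsq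
  have hne : τ ≠ 1 := fun h => by
    rw [h, orderOf_one] at hτ
    exact Nat.not_even_one hτ
  have hord : orderOf τ = 2 := orderOf_eq_prime hττ hne
  obtain rfl : τ = σ := RingEquiv.ext fun x => by
    rw [AutPSL.sigma_eq_pow hord C.card, C.spow]
  refine ⟨hm, g⁻¹, by rw [ugam, inv_inv], ?_⟩
  refine (orderOf_ugam_iff C hm g⁻¹).1 ?_
  rw [ugam, inv_inv]
  exact h2

end Cfsg.Agent.GraphPSU
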