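import Cfsg.Agent.Lib.GraphPSU.Basic

/-!
# Descent of involutory graph automorphisms of `PSU_n(q)` to `GF(q)`

* `Desc B H` : the `±`-symmetric matrix `H` over `GF(q)` attached to `B`; `exists_desc`, `exists_lift`
* `conj_iff` : classes correspond; `centralizer_desc` : the centralisers agree
-/

set_option autoImplicit false
set_option linter.unusedSectionVars false
set_option linter.style.haveILetI false

open scoped MatrixGroups Matrix

namespace Cfsg.Agent.GraphPSU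

open Cfsg.Agent.FieldAut (scal galGL mapGL)
open Cfsg.Agent.AutPSL (ctr gam simGrp)

variable {F : Type*} [Field F] [Fintype F] {F₀ : Type*} [Field F₀] [Fintype F₀] {m q : ℕ}
  {σ : F ≃+* F} {e : F₀ →+* F}

local notation "G2" => GL (Fin (m + 2)) F
local notation "M2" => Matrix (Fin (m + 2)) (Fin (m + 2)) F
local notation "G0" => GL (Fin (m + 2)) F₀
local notation "M0" => Matrix (Fin (m + 2)) (Fin (m + 2)) F₀

/-- `B = a σ(k) k⁻¹` and `kᵀ σ(k) = d H`, with witnesses. -/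
structure DescData (σ : F ≃+* F) (e : F₀ →+* F) (B : G2) (H : G0) (k : G2) (a d : Fˣ) : Prop where
  hB : B = scal a * (galGL σ k * k⁻¹)
  hH : (k : M2)ᵀ * (k : M2).map σ = (d : F) • (H : M0).map e

/-- `H` is the descent of `B`. -/
def Desc (σ : F ≃+* F) (e : F₀ →+* F) (B : Cfsg.GU (m + 2) F q) (H : G0) : Prop :=
  ∃ (k : G2) (a d : Fˣ), DescData σ e (B : G2) H k a d

theorem map_ne_zero' (H : G0) : (H : M0).map e ≠ 0 := by
  intro h
  refine H.det_ne_zero ?_
  apply e.injective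
  rw [map_zero, RingHom.map_det, RingHom.mapMatrix_apply, h]
  simp

theorem map_map_fix (C : Ctx q σ e) (M : M0) : (M.map e).map σ = M.map e := by
  ext i j; exact C.fix _

theorem smul_fixed (C : Ctx q σ e) {t : F} {M N : M0} (hN : N ≠ 0)
    (h : M.map e = t • N.map e) : ∃ c : F₀, e c = t ∧ M = c • N := by
  obtain ⟨i, j, hij⟩ : ∃ i j, N i j ≠ 0 := by
    by_contra! h0; exact hN (Matrix.ext h0)
  have h1 : e (M i j) = t * e (N i j) := congrFun (congrFun h i) j
  have hne : e (N i j) ≠ 0 := fun h0 => hij (e.injective (h0.trans (map_zero e).symm))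
  obtain ⟨c, hc⟩ := (C.range t).2 (mul_right_cancel₀ hne (by
    have := congrArg σ h1
    rw [map_mul, C.fix, C.fix] at this
    rw [← this, h1]))
  refine ⟨c, hc, Matrix.ext fun r s => e.injective ?_⟩
  rw [Matrix.smul_apply, smul_eq_mul, map_mul, hc]
  exact congrFun (congrFun h r) s

theorem GU_rel (C : Ctx q σ e) {B k : G2} {a : Fˣ} (hBU : B ∈ Cfsg.GU (m + 2) F q)
    (hB : B = scal a * (galGL σ k * k⁻¹)) :
    ((a : F) * σ (a : F)) • (((k : M2).map σ)ᵀ * (k : M2)) = (k : M2)ᵀ * (k : M2).map σ := by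
  have hGU := (C.mem_GU B).1 hBU
  have hkk : ((k : M2).map σ).map σ = (k : M2) := by ext i j; exact C.invol _
  have hval : (B : M2) = (a : F) • ((k : M2).map σ * ((k⁻¹ : G2) : M2)) := by
    rw [hB, Units.val_mul, FieldAut.scal_coe, Matrix.smul_mul, one_mul, Units.val_mul,
      FieldAut.galGL_apply_coe]
  have h5 : (k : M2)ᵀ * ((k⁻¹ : G2) : M2)ᵀ = 1 := by
    rw [← Matrix.transpose_mul, Units.inv_mul, Matrix.transpose_one]
  have h6 : ((k⁻¹ : G2) : M2).map σ * (k : M2).map σ = 1 := by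
    rw [← Matrix.map_mul, Units.inv_mul, Matrix.map_one _ (map_zero σ) (map_one σ)]
  have h4 := congrArg (fun M : M2 => (k : M2)ᵀ * M * (k : M2).map σ) hGU
  rw [hval, Matrix.map_smul' _ _ _ (fun x y => map_mul σ x y), Matrix.map_mul, hkk,
    Matrix.transpose_smul, Matrix.transpose_mul] at h4
  simp only [Matrix.smul_mul, Matrix.mul_smul, smul_smul, mul_assoc, h6, mul_one] at h4
  rw [← mul_assoc (k : M2)ᵀ, h5, one_mul] at h4
  rw [← h4, mul_comm (a : F)]

theorem DescData.transpose_eq (C : Ctx q σ e) {B : G2} {H : G0} {k : G2} {a d : Fˣ}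
    (D : DescData σ e B H k a d) :
    ((H : M0).map e)ᵀ = (σ (d : F) / (d : F)) • (H : M0).map e := by
  have h1 := congrArg Matrix.transpose D.hH
  rw [Matrix.transpose_mul, Matrix.transpose_transpose, Matrix.transpose_smul] at h1
  have hkk : ((k : M2).map σ).map σ = (k : M2) := by ext i j; exact C.invol _
  have h2 : ((k : M2).map σ)ᵀ * (k : M2) = ((d : F) • (H : M0).map e).map σ := by
    rw [← D.hH, Matrix.map_mul, hkk, ← Matrix.transpose_map]
  rw [h2, Matrix.map_smul' _ _ _ (fun x y => map_mul σ x y), map_map_fix C] at h1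
  rw [div_eq_inv_mul, mul_smul, h1, inv_smul_smul₀ d.ne_zero]

theorem DescData.type_eq (C : Ctx q σ e) {B : Cfsg.GU (m + 2) F q} {H : G0} {k : G2} {a d : Fˣ}
    (D : DescData σ e (B : G2) H k a d) :
    ((B : G2) : M2)ᵀ = (σ (d : F) / (d : F)) • ((B : G2) : M2) := by
  have hB := D.hB
  -- `B⁻ᵀ = σ B`
  have hgal : galGL σ (B : G2) = ctr (B : G2) := C.gal_eq B.2
  have hgg : ∀ g : G2, galGL σ (galGL σ g) = g := fun g => Units.ext (by ext i j; exact C.invol _)
  set r : Fˣ := a * Units.map σ.toMonoidHom a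
  have h1 : galGL σ (B : G2) * (B : G2) = scal r := by
    rw [hB, map_mul, map_mul, map_inv, hgg, FieldAut.galGL_scal]
    simp only [mul_assoc]
    rw [← mul_assoc (galGL σ k)⁻¹, ← FieldAut.scal_comm a, mul_assoc (scal a),
      inv_mul_cancel_left, ← mul_assoc k, ← FieldAut.scal_comm a, mul_assoc (scal a), mul_inv_cancel,
      mul_one, ← map_mul, mul_comm]
  rw [hgal] at h1
  have hBT : ((B : G2) : M2)ᵀ = ((r⁻¹ : Fˣ) : F) • ((B : G2) : M2) := by
    have h2 := congrArg (fun g : G2 => ((B : G2) : M2)ᵀ * (g : M2)) h1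
    simp only [Units.val_mul, ← mul_assoc, AutPSL.transpose_mul_ctr, one_mul, FieldAut.scal_coe,
      Matrix.mul_smul, mul_one] at h2
    conv_rhs => rw [h2, smul_smul, Units.inv_mul, one_smul]
  have h3 : (r : F) • (((k : M2).map σ)ᵀ * (k : M2)) = (k : M2)ᵀ * (k : M2).map σ :=
    GU_rel C B.2 D.hB
  rw [show ((k : M2).map σ)ᵀ * (k : M2) = ((k : M2)ᵀ * (k : M2).map σ)ᵀ by
    rw [Matrix.transpose_mul, Matrix.transpose_transpose], D.hH, Matrix.transpose_smul,
    D.transpose_eq C, smul_smul, smul_smul] at h3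
  have h7 := smul_left_injective F (map_ne_zero' (e := e) H)
    (show ((r : F) * ((d : F) * (σ (d : F) / (d : F)))) • (H : M0).map e = (d : F) • (H : M0).map e by
      rw [← h3, mul_assoc])
  rw [hBT]
  congr 1
  have hr : (r : F) * (σ (d : F) / (d : F)) = 1 := by
    field_simp at h7 ⊢
    linear_combination h7
  rw [Units.val_inv_eq_inv_val]
  exact inv_eq_of_mul_eq_one_right hr

theorem desc_type (C : Ctx q σ e) {B : Cfsg.GU (m + 2) F q} {H : G0} (D : Desc σ e B H) (s : F₀) :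
    ((B : G2) : M2)ᵀ = e s • ((B : G2) : M2) ↔ (H : M0)ᵀ = s • (H : M0) := by
  obtain ⟨k, a, d, D⟩ := D
  have hB0 : ((B : G2) : M2) ≠ 0 := fun h => (B : G2).det_ne_zero (by rw [h]; simp)
  have hinj : (H : M0)ᵀ = s • (H : M0) ↔ ((H : M0).map e)ᵀ = e s • (H : M0).map e := by
    rw [← Matrix.map_smul' _ _ _ (fun x y => map_mul e x y), ← Matrix.transpose_map,
      (Matrix.map_injective e.injective).eq_iff]
  rw [hinj, D.type_eq C, D.transpose_eq C, (smul_left_injective F hB0).eq_iff,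
    (smul_left_injective F (map_ne_zero' (e := e) H)).eq_iff]

theorem exists_desc (C : Ctx q σ e) {B : Cfsg.GU (m + 2) F q}
    (hB : ((B : G2) : M2)ᵀ = ((B : G2) : M2) ∨ ((B : G2) : M2)ᵀ = -((B : G2) : M2)) :
    ∃ H : G0, Desc σ e B H ∧ ((H : M0)ᵀ = (H : M0) ∨ (H : M0)ᵀ = -(H : M0)) := by
  obtain ⟨z, hz⟩ : ∃ z : Fˣ, FieldAut.twNorm σ 2 (B : G2)⁻¹ = scal z := by
    obtain ⟨s, hs⟩ : ∃ s : Fˣ, ((B : G2) : M2)ᵀ = (s : F) • ((B : G2) : M2) := by
      rcases hB with h | h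
      · exact ⟨1, by rw [h, Units.val_one, one_smul]⟩
      · exact ⟨-1, by rw [h, Units.val_neg, Units.val_one, neg_one_smul]⟩
    refine ⟨s, ?_⟩
    have h2 : FieldAut.twNorm σ 2 (B : G2)⁻¹ = (B : G2)⁻¹ * galGL σ (B : G2)⁻¹ := by
      simp [FieldAut.twNorm]
    rw [h2, inv_mul_eq_iff_eq_mul, C.gal_eq (inv_mem B.2)]
    refine Units.ext ?_
    show ((((B : G2)⁻¹)⁻¹ : G2) : M2)ᵀ = _
    rw [inv_inv, hs, Units.val_mul, FieldAut.scal_coe, Matrix.mul_smul, mul_one]
  obtain ⟨a, k, hgk⟩ := FieldAut.exists_twist_of_scalar C.ord two_pos hz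
  have hBk : (B : G2) = scal a⁻¹ * (galGL σ k * k⁻¹) := by
    rw [← inv_inv (B : G2), hgk, _root_.mul_inv_rev, _root_.mul_inv_rev, inv_inv, ← map_inv scal a,
      FieldAut.scal_comm]
  set M : M2 := (k : M2)ᵀ * (k : M2).map σ with hM
  have hMdet : M.det ≠ 0 := by
    rw [hM, Matrix.det_mul, Matrix.det_transpose]
    exact mul_ne_zero k.det_ne_zero (galGL σ k).det_ne_zero
  have hkk : ((k : M2).map σ).map σ = (k : M2) := by ext i j; exact C.invol _
  set r : Fˣ := a⁻¹ * Units.map σ.toMonoidHom a⁻¹ with hr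
  have hMr : M = (r : F) • M.map σ := by
    rw [hM, Matrix.map_mul, hkk, Matrix.transpose_map]
    exact (GU_rel C B.2 hBk).symm
  obtain ⟨d, -, hd⟩ := FieldAut.exists_fixed_multiple C.ord two_pos
    (x := fun p : Fin (m + 2) × Fin (m + 2) => M p.1 p.2) (c := r⁻¹) (by
      by_contra! h0
      exact hMdet (by rw [show M = 0 from Matrix.ext fun i j => h0 (i, j)]; simp))
    (fun p => by
      have h := congrFun (congrFun hMr p.1) p.2
      rw [Matrix.smul_apply, Matrix.map_apply, smul_eq_mul] at h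
      show σ (M p.1 p.2) = _
      conv_rhs => rw [h, ← mul_assoc, Units.inv_mul, one_mul])
  choose H₀ hH₀ using fun i j => (C.range _).2 (hd (i, j))
  have hmap : (Matrix.of H₀).map e = ((d⁻¹ : Fˣ) : F) • M := by
    ext i j; exact hH₀ i j
  have hHd : (Matrix.of H₀).det ≠ 0 := by
    intro h0
    have h1 : ((Matrix.of H₀).map e).det = 0 := by
      rw [← RingHom.mapMatrix_apply, ← RingHom.map_det, h0, map_zero]
    rw [hmap, Matrix.det_smul] at h1
    exact mul_ne_zero (pow_ne_zero _ (d⁻¹).ne_zero) hMdet h1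
  let H : G0 := Matrix.GeneralLinearGroup.mkOfDetNeZero _ hHd
  have D : Desc σ e B H := ⟨k, a⁻¹, d, hBk, by
    show (k : M2)ᵀ * (k : M2).map σ = (d : F) • (Matrix.of H₀).map e
    rw [hmap, smul_smul, Units.mul_inv, one_smul]⟩
  refine ⟨H, D, ?_⟩
  rcases hB with h | h
  · exact Or.inl (by
      have := (desc_type C D 1).1 (by rw [map_one, one_smul]; exact h)
      rwa [one_smul] at this)
  · exact Or.inr (by
      have := (desc_type C D (-1)).1 (by rw [map_neg, map_one, neg_one_smul]; exact h)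
      rwa [neg_one_smul] at this)

theorem exists_lift (C : Ctx q σ e) {H : G0} (hH : (H : M0)ᵀ = (H : M0) ∨ (H : M0)ᵀ = -(H : M0)) :
    ∃ B : Cfsg.GU (m + 2) F q, Desc σ e B H ∧
      (((B : G2) : M2)ᵀ = ((B : G2) : M2) ∨ ((B : G2) : M2)ᵀ = -((B : G2) : M2)) := by
  obtain ⟨s, hss, hs, hHs⟩ : ∃ s : F, s * s = 1 ∧ σ s = s ∧ ((H : M0).map e)ᵀ = s • (H : M0).map e := by
    rcases hH with h | h
    · exact ⟨1, one_mul 1, map_one σ, by rw [← Matrix.transpose_map, h, one_smul]⟩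
    · exact ⟨-1, by ring, by rw [map_neg, map_one], by
        rw [← Matrix.transpose_map, h, neg_one_smul]; ext i j; simp⟩
  obtain ⟨d, hd0, hd⟩ : ∃ d : F, d ≠ 0 ∧ σ d = s * d := by
    rcases mul_self_eq_one_iff.1 hss with rfl | rfl
    · exact ⟨1, one_ne_zero, by rw [map_one, one_mul]⟩
    · obtain ⟨d, hd0, hd⟩ := Unitary.exists_skew C.card
      exact ⟨d, hd0, by rw [C.spow, hd, neg_one_mul]⟩
  set N : M2 := d • (H : M0).map e with hN
  have hNdet : N.det ≠ 0 := by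
    rw [hN, Matrix.det_smul, ← RingHom.mapMatrix_apply, ← RingHom.map_det]
    exact mul_ne_zero (pow_ne_zero _ hd0) fun h => H.det_ne_zero (e.injective (h.trans (map_zero e).symm))
  obtain ⟨k₀, hk₀⟩ := AutPSL.exists_herm_factor C.card (Matrix.GeneralLinearGroup.mkOfDetNeZero N hNdet)
    (by
      show (N.map (Unitary.conjHom C.card))ᵀ = N
      rw [← C.coe, hN, Matrix.map_smul' _ _ _ (fun x y => map_mul σ x y), map_map_fix C,
        Matrix.transpose_smul, hHs, hd, smul_smul, mul_right_comm, hss, one_mul])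
  let k : G2 := ⟨(k₀ : M2)ᵀ, (((k₀⁻¹ : G2) : M2))ᵀ,
    by rw [← Matrix.transpose_mul, Units.inv_mul, Matrix.transpose_one],
    by rw [← Matrix.transpose_mul, Units.mul_inv, Matrix.transpose_one]⟩
  have hk : (k : M2)ᵀ * (k : M2).map σ = d • (H : M0).map e := by
    show ((k₀ : M2)ᵀ)ᵀ * ((k₀ : M2)ᵀ).map σ = N
    rw [Matrix.transpose_transpose, Matrix.transpose_map, C.coe]
    exact hk₀.symm
  obtain ⟨a, ha⟩ := Unitary.exists_norm_eq C.card (c := s) (by rw [← C.spow, hs])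
  have ha0 : a ≠ 0 := fun h => by
    rw [h, zero_pow (Nat.succ_ne_zero q)] at ha
    rw [← ha, zero_mul] at hss
    exact zero_ne_one hss
  let B : G2 := scal (Units.mk0 a ha0) * (galGL σ k * k⁻¹)
  have hkk : ((k : M2).map σ).map σ = (k : M2) := by ext i j; exact C.invol _
  have hBU : B ∈ Cfsg.GU (m + 2) F q := by
    rw [C.mem_GU]
    have hval : (B : M2) = a • ((k : M2).map σ * ((k⁻¹ : G2) : M2)) := by
      show ((scal (Units.mk0 a ha0) * (galGL σ k * k⁻¹) : G2) : M2) = _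
      rw [Units.val_mul, FieldAut.scal_coe, Matrix.smul_mul, one_mul, Units.val_mul,
        FieldAut.galGL_apply_coe]
      rfl
    have h1 : ((k : M2).map σ)ᵀ * (k : M2) = s • ((k : M2)ᵀ * (k : M2).map σ) := by
      rw [show ((k : M2).map σ)ᵀ * (k : M2) = ((k : M2)ᵀ * (k : M2).map σ)ᵀ by
        rw [Matrix.transpose_mul, Matrix.transpose_transpose], hk, Matrix.transpose_smul, hHs, smul_comm]
    have h5 : ((k⁻¹ : G2) : M2)ᵀ * (k : M2)ᵀ = 1 := by
      rw [← Matrix.transpose_mul, Units.mul_inv, Matrix.transpose_one]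
    have h6 : (k : M2).map σ * ((k⁻¹ : G2) : M2).map σ = 1 := by
      rw [← Matrix.map_mul, Units.mul_inv, Matrix.map_one _ (map_zero σ) (map_one σ)]
    rw [hval, Matrix.map_smul' _ _ _ (fun x y => map_mul σ x y), Matrix.map_mul, hkk,
      Matrix.transpose_smul, Matrix.transpose_mul, Matrix.smul_mul, Matrix.mul_smul, smul_smul]
    rw [show ((k⁻¹ : G2) : M2)ᵀ * ((k : M2).map σ)ᵀ * ((k : M2) * ((k⁻¹ : G2) : M2).map σ) =
      ((k⁻¹ : G2) : M2)ᵀ * (((k : M2).map σ)ᵀ * (k : M2)) * ((k⁻¹ : G2) : M2).map σ by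
        simp only [mul_assoc], h1, Matrix.mul_smul, Matrix.smul_mul, ← mul_assoc, h5, one_mul, h6,
      smul_smul, C.spow, ← pow_succ', ha, hss, one_smul]
  have D : Desc σ e ⟨B, hBU⟩ H := ⟨k, Units.mk0 a ha0, Units.mk0 d hd0, rfl, hk⟩
  refine ⟨⟨B, hBU⟩, D, ?_⟩
  rcases hH with h | h
  · exact Or.inl (by
      have := (desc_type C D 1).2 (by rw [one_smul]; exact h)
      rwa [map_one, one_smul] at this)
  · exact Or.inr (by
      have := (desc_type C D (-1)).2 (by rw [neg_one_smul]; exact h)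
      rwa [map_neg, map_one, neg_one_smul] at this)

theorem down (C : Ctx q σ e) {B B' : Cfsg.GU (m + 2) F q} {H H' : G0} {k k' : G2} {a d a' d' : Fˣ}
    (D : DescData σ e (B : G2) H k a d) (D' : DescData σ e (B' : G2) H' k' a' d')
    {h : Cfsg.GU (m + 2) F q} {c : Fˣ}
    (hh : ((B' : G2) : M2) = (c : F) • (((h : G2) : M2)ᵀ * ((B : G2) : M2) * ((h : G2) : M2))) :
    ∃ (x₀ : G0) (b : Fˣ) (c₀ : F₀ˣ), (h : G2) = k * (scal b * mapGL e x₀) * k'⁻¹ ∧
      (H' : M0) = (c₀ : F₀) • ((x₀ : M0)ᵀ * (H : M0) * (x₀ : M0)) := by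
  have hB' : (B' : G2) = scal c * ((galGL σ (h : G2))⁻¹ * (B : G2) * (h : G2)) := by
    refine Units.ext ?_
    rw [hh, C.gal_eq h.2, Units.val_mul (scal c), FieldAut.scal_coe, Matrix.smul_mul, one_mul, Units.val_mul,
      Units.val_mul]
    rfl
  rw [D'.hB, D.hB] at hB'
  set X : G2 := k⁻¹ * (h : G2) * k'
  have hX : galGL σ X = scal (a'⁻¹ * c * a) * X := by
    have hc1 : ∀ (x : Fˣ) (g g' : G2), g * (scal x * g') = scal x * (g * g') := fun x g g' => by
      rw [← mul_assoc g, ← FieldAut.scal_comm, mul_assoc]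
    set Z : G2 := galGL σ k * k⁻¹
    set S : G2 := galGL σ (h : G2)
    have h0 : scal a' * (galGL σ k' * k'⁻¹) = scal (c * a) * (S⁻¹ * Z * (h : G2)) := by
      rw [hB', hc1, mul_assoc (scal a), ← mul_assoc (scal c), ← map_mul]
    have h1 : galGL σ k' = scal (a'⁻¹ * c * a) * (S⁻¹ * Z * (h : G2) * k') := by
      calc galGL σ k' = scal a'⁻¹ * (scal a' * (galGL σ k' * k'⁻¹)) * k' := by
            rw [← mul_assoc (scal a'⁻¹), ← map_mul, inv_mul_cancel, map_one, one_mul, inv_mul_cancel_right]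
        _ = _ := by
            rw [h0, ← mul_assoc (scal a'⁻¹), ← map_mul, mul_assoc (scal _), mul_assoc a'⁻¹ c a]
    rw [map_mul, map_mul, map_inv, h1, hc1]
    congr 1
    simp only [X, Z, S, mul_assoc, mul_inv_cancel_left, inv_mul_cancel_left]
  obtain ⟨x₀, b, hXb⟩ := FieldAut.exists_mapGL_of_twist C.ord two_pos e (fun x hx => (C.range x).2 hx) hX
  have hhX : (h : G2) = k * (scal b * mapGL e x₀) * k'⁻¹ := by rw [← hXb]; simp [X, mul_assoc]
  set Y : M2 := (x₀ : M0).map e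
  have hY : Y.map σ = Y := map_map_fix C _
  have hkX : ((h : G2) : M2) * (k' : M2) = (b : F) • ((k : M2) * Y) := by
    rw [← Units.val_mul, hhX, inv_mul_cancel_right, Units.val_mul, Units.val_mul, FieldAut.scal_coe,
      Matrix.smul_mul, one_mul, Matrix.mul_smul]
    rfl
  have hGU := (C.mem_GU (h : G2)).1 h.2
  have h2 : (k' : M2)ᵀ * (k' : M2).map σ =
      (((h : G2) : M2) * (k' : M2))ᵀ * (((h : G2) : M2) * (k' : M2)).map σ := by
    rw [Matrix.transpose_mul, Matrix.map_mul, mul_assoc, ← mul_assoc ((h : G2) : M2)ᵀ, hGU, one_mul]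
  rw [hkX, Matrix.map_smul' _ _ _ (fun x y => map_mul σ x y), Matrix.map_mul, hY, Matrix.transpose_smul,
    Matrix.transpose_mul, Matrix.smul_mul, Matrix.mul_smul, smul_smul, D'.hH,
    show Yᵀ * (k : M2)ᵀ * ((k : M2).map σ * Y) = Yᵀ * ((k : M2)ᵀ * (k : M2).map σ) * Y by
      simp only [mul_assoc], D.hH, Matrix.mul_smul, Matrix.smul_mul, smul_smul] at h2
  have hZ : ((x₀ : M0)ᵀ * (H : M0) * (x₀ : M0)).map e = Yᵀ * (H : M0).map e * Y := by
    rw [Matrix.map_mul, Matrix.map_mul, Matrix.transpose_map]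
  have hne : (x₀ : M0)ᵀ * (H : M0) * (x₀ : M0) ≠ 0 := fun h0 => by
    have := congrArg Matrix.det h0
    rw [Matrix.det_mul, Matrix.det_mul, Matrix.det_transpose] at this
    simp [x₀.det_ne_zero, H.det_ne_zero] at this
  obtain ⟨c₀, hc₀, hH'⟩ := smul_fixed C hne
    (M := (H' : M0)) (t := ((d' : F)⁻¹ * ((b : F) * σ (b : F) * (d : F)))) (by
      rw [hZ, mul_smul, ← h2, inv_smul_smul₀ d'.ne_zero])
  have hc0 : c₀ ≠ 0 := fun h0 => H'.det_ne_zero (by rw [hH', h0, zero_smul]; simp)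
  exact ⟨x₀, b, Units.mk0 c₀ hc0, hhX, hH'⟩

/-- The lift of a similarity over `GF(q)` with a chosen scalar. -/
theorem up_core (C : Ctx q σ e) {B B' : Cfsg.GU (m + 2) F q} {H H' : G0} {k k' : G2} {a d a' d' : Fˣ}
    (D : DescData σ e (B : G2) H k a d) (D' : DescData σ e (B' : G2) H' k' a' d')
    (x₀ : G0) {c₀ : F₀} (hH : (H' : M0) = c₀ • ((x₀ : M0)ᵀ * (H : M0) * (x₀ : M0)))
    (b : Fˣ) (hb : (b : F) * σ (b : F) * (d : F) = e c₀ * (d' : F)) :
    ∃ h : Cfsg.GU (m + 2) F q, (h : G2) = k * (scal b * mapGL e x₀) * k'⁻¹ ∧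
      ((h : G2) : M2)ᵀ * ((B : G2) : M2) * ((h : G2) : M2) =
        ((b : F) / σ (b : F) * (a : F) / (a' : F)) • ((B' : G2) : M2) := by
  set hG : G2 := k * (scal b * mapGL e x₀) * k'⁻¹
  set Y : M2 := (x₀ : M0).map e
  have hY : Y.map σ = Y := map_map_fix C _
  have hkX : (hG : M2) * (k' : M2) = (b : F) • ((k : M2) * Y) := by
    rw [← Units.val_mul, inv_mul_cancel_right, Units.val_mul, Units.val_mul, FieldAut.scal_coe,
      Matrix.smul_mul, one_mul, Matrix.mul_smul]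
    rfl
  have hmem : hG ∈ Cfsg.GU (m + 2) F q := by
    rw [C.mem_GU]
    have h2 : ((hG : M2) * (k' : M2))ᵀ * ((hG : M2) * (k' : M2)).map σ =
        (k' : M2)ᵀ * (k' : M2).map σ := by
      rw [hkX, Matrix.map_smul' _ _ _ (fun x y => map_mul σ x y), Matrix.map_mul, hY, Matrix.transpose_smul,
        Matrix.transpose_mul, Matrix.smul_mul, Matrix.mul_smul, smul_smul, D'.hH,
        show Yᵀ * (k : M2)ᵀ * ((k : M2).map σ * Y) = Yᵀ * ((k : M2)ᵀ * (k : M2).map σ) * Y by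
          simp only [mul_assoc], D.hH, Matrix.mul_smul, Matrix.smul_mul, smul_smul, hb, hH,
        Matrix.map_smul' _ _ _ (fun x y => map_mul e x y), Matrix.map_mul, Matrix.map_mul,
        Matrix.transpose_map, smul_smul, mul_comm (d' : F)]
    have h5 : ((k'⁻¹ : G2) : M2)ᵀ * (k' : M2)ᵀ = 1 := by
      rw [← Matrix.transpose_mul, Units.mul_inv, Matrix.transpose_one]
    have h6 : (k' : M2).map σ * ((k'⁻¹ : G2) : M2).map σ = 1 := by
      rw [← Matrix.map_mul, Units.mul_inv, Matrix.map_one _ (map_zero σ) (map_one σ)]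
    have h3 := congrArg (fun M : M2 => ((k'⁻¹ : G2) : M2)ᵀ * M * ((k'⁻¹ : G2) : M2).map σ) h2
    rw [Matrix.transpose_mul, Matrix.map_mul] at h3
    simp only [mul_assoc, h6, mul_one] at h3
    simp only [← mul_assoc, h5, one_mul] at h3
    exact h3
  refine ⟨⟨hG, hmem⟩, rfl, ?_⟩
  have hg : (galGL σ hG)⁻¹ * (B : G2) * hG =
      scal (b * (Units.map σ.toMonoidHom b)⁻¹ * a * a'⁻¹) * (B' : G2) := by
    have hc1 : ∀ (x : Fˣ) (g g' : G2), g * (scal x * g') = scal x * (g * g') := fun x g g' => by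
      rw [← mul_assoc g, ← FieldAut.scal_comm, mul_assoc]
    rw [D.hB, D'.hB]
    set Y₀ : G2 := mapGL e x₀
    have hc2 : ∀ (x y z : Fˣ) (U V W : G2),
        scal x * U * (scal y * V) * (scal z * W) = scal (x * y * z) * (U * V * W) := fun x y z U V W => by
      simp only [mul_assoc]
      rw [hc1 z V W, hc1 y U, hc1 z U, ← mul_assoc (scal x), ← map_mul, ← mul_assoc (scal (x * y)), ← map_mul,
        mul_assoc x]
    have e1 : hG = scal b * (k * Y₀ * k'⁻¹) := by
      show k * (scal b * Y₀) * k'⁻¹ = _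
      rw [hc1, mul_assoc (scal b)]
    have e2 : (galGL σ hG)⁻¹ = scal (Units.map σ.toMonoidHom b)⁻¹ *
        (galGL σ k' * Y₀⁻¹ * (galGL σ k)⁻¹) := by
      rw [e1, map_mul, FieldAut.galGL_scal, _root_.mul_inv_rev, map_mul, map_mul, map_inv,
        FieldAut.galGL_mapGL e C.fix, ← map_inv scal, ← FieldAut.scal_comm, _root_.mul_inv_rev,
        _root_.mul_inv_rev, inv_inv, mul_assoc (galGL σ k')]
    rw [e2, e1, hc2,
      show galGL σ k' * Y₀⁻¹ * (galGL σ k)⁻¹ * (galGL σ k * k⁻¹) * (k * Y₀ * k'⁻¹) = galGL σ k' * k'⁻¹ by group,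
      ← mul_assoc (scal (b * _ * a * a'⁻¹)), ← map_mul, inv_mul_cancel_right]
    congr 2
    rw [mul_comm _ b, mul_assoc]
  have h7 := congrArg Units.val hg
  rw [C.gal_eq hmem, Units.val_mul _ hG, Units.val_mul _ (B : G2), Units.val_mul (scal _) (B' : G2),
    FieldAut.scal_coe, Matrix.smul_mul, one_mul] at h7
  refine h7.trans (congrArg (fun z => z • ((B' : G2) : M2)) ?_)
  simp [div_eq_mul_inv]

theorem up (C : Ctx q σ e) {B B' : Cfsg.GU (m + 2) F q} {H H' : G0} {k k' : G2} {a d a' d' : Fˣ}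
    (D : DescData σ e (B : G2) H k a d) (D' : DescData σ e (B' : G2) H' k' a' d')
    (x₀ : G0) {c₀ : F₀} (hH : (H' : M0) = c₀ • ((x₀ : M0)ᵀ * (H : M0) * (x₀ : M0))) :
    ∃ (h : Cfsg.GU (m + 2) F q) (b c : Fˣ), (h : G2) = k * (scal b * mapGL e x₀) * k'⁻¹ ∧
      ((B' : G2) : M2) = (c : F) • (((h : G2) : M2)ᵀ * ((B : G2) : M2) * ((h : G2) : M2)) := by
  have hc0 : c₀ ≠ 0 := fun h0 => H'.det_ne_zero (by rw [hH, h0, zero_smul]; simp)
  have hratio : σ (d' : F) / (d' : F) = σ (d : F) / (d : F) := by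
    refine smul_left_injective F (map_ne_zero' (e := e) H') ?_
    show _ • (H' : M0).map e = _ • (H' : M0).map e
    rw [← D'.transpose_eq C, hH, Matrix.map_smul' _ _ _ (fun x y => map_mul e x y), Matrix.map_mul,
      Matrix.map_mul, Matrix.transpose_map, Matrix.transpose_smul, Matrix.transpose_mul,
      Matrix.transpose_mul, Matrix.transpose_transpose, D.transpose_eq C, Matrix.smul_mul,
      Matrix.mul_smul, smul_comm, mul_assoc]
  have hec : e c₀ ≠ 0 := fun h => hc0 (e.injective (h.trans (map_zero e).symm))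
  have hfixed : (e c₀ * (d' : F) / (d : F)) ^ q = e c₀ * (d' : F) / (d : F) := by
    rw [← C.spow, map_div₀, map_mul, C.fix]
    have hd : σ (d : F) ≠ 0 := by simp
    field_simp at hratio ⊢
    linear_combination hratio
  obtain ⟨b, hb⟩ := Unitary.exists_norm_eq C.card hfixed
  have hb0 : b ≠ 0 := fun h => by
    rw [h, zero_pow (Nat.succ_ne_zero q)] at hb
    exact (div_ne_zero (mul_ne_zero hec d'.ne_zero) d.ne_zero) hb.symm
  obtain ⟨h, hh, heq⟩ := up_core C D D' x₀ hH (Units.mk0 b hb0) (by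
    rw [Units.val_mk0, C.spow, ← pow_succ', hb, div_mul_cancel₀ _ d.ne_zero])
  refine ⟨h, Units.mk0 b hb0, (Units.mk0 b hb0 * (Units.map σ.toMonoidHom (Units.mk0 b hb0))⁻¹ * a * a'⁻¹)⁻¹,
    hh, ?_⟩
  rw [heq, smul_smul]
  conv_lhs => rw [← one_smul F ((B' : G2) : M2)]
  congr 1
  push_cast
  show 1 = (b * (σ b)⁻¹ * (a : F) * (a' : F)⁻¹)⁻¹ * (b / σ b * (a : F) / (a' : F))
  have : σ b ≠ 0 := by simpa using hb0
  field_simp

theorem conj_iff (C : Ctx q σ e) {B B' : Cfsg.GU (m + 2) F q} {H H' : G0} (D : Desc σ e B H)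
    (D' : Desc σ e B' H') :
    Cfsg.IsConjUnder (Cfsg.inndiagPSU (m + 2) F q) (ugam σ B) (ugam σ B') ↔
      Cfsg.IsConjUnder (Cfsg.inndiagPSL (m + 2) F₀) (gam H) (gam H') := by
  obtain ⟨k, a, d, D⟩ := D
  obtain ⟨k', a', d', D'⟩ := D'
  rw [isConjUnder_ugam_iff C, AutPSL.isConjUnder_gam_iff]
  constructor
  · rintro ⟨h, c, hh⟩
    obtain ⟨x₀, b, c₀, -, hH⟩ := down C D D' hh
    exact ⟨x₀, c₀, hH⟩
  · rintro ⟨x₀, c₀, hH⟩
    obtain ⟨h, b, c, -, hh⟩ := up C D D' x₀ hH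
    exact ⟨h, c, hh⟩

theorem centralizer_desc (C : Ctx q σ e) {B : Cfsg.GU (m + 2) F q} {H : G0} (D : Desc σ e B H) :
    Nonempty (↥(Cfsg.inndiagPSU (m + 2) F q ⊓ Subgroup.centralizer {ugam σ B}) ≃*
      ↥(Cfsg.inndiagPSL (m + 2) F₀ ⊓ Subgroup.centralizer {gam H})) := by
  obtain ⟨k, a, d, D⟩ := D
  obtain ⟨E0⟩ := AutPSL.gam_centralizer_equiv H
  set S := simGrp (H : M0)
  have hex : ∀ x : S, ∃ h : Cfsg.GU (m + 2) F q, (∃ b : Fˣ, (h : G2) = k * (scal b * mapGL e x.1) * k⁻¹) ∧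
      Commute (uconj h) (ugam σ B) := by
    intro x
    obtain ⟨c, hc⟩ := x.2
    obtain ⟨h, b, c', hh, hB⟩ := up C D D x.1 (c₀ := ((c⁻¹ : F₀ˣ) : F₀))
      (by rw [hc, smul_smul, Units.inv_mul, one_smul])
    refine ⟨h, ⟨b, hh⟩, (commute_ugam_iff C _ _).2 ⟨c'⁻¹, ?_⟩⟩
    conv_rhs => rw [hB, smul_smul, Units.inv_mul, one_smul]
  choose u hu using hex
  have hk1 : ∀ (x : Fˣ) (g : G2), k * (scal x * g) * k⁻¹ = scal x * (k * g * k⁻¹) := fun x g => by
    rw [← mul_assoc k, ← FieldAut.scal_comm, mul_assoc (scal x), mul_assoc (scal x)]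
  have huniq : ∀ (x : S) (h : Cfsg.GU (m + 2) F q) (b : Fˣ),
      (h : G2) = k * (scal b * mapGL e x.1) * k⁻¹ → uconj h = uconj (u x) := by
    intro x h b hh
    obtain ⟨b', hb'⟩ := (hu x).1
    rw [uconj_eq_iff C]
    refine ⟨b * b'⁻¹, ?_⟩
    rw [hh, hb', hk1, hk1, ← mul_assoc (scal (b * b'⁻¹)), ← map_mul, inv_mul_cancel_right]
  let j : S →* MulAut (Cfsg.PSU (m + 2) F q) := MonoidHom.mk' (fun x => uconj (u x)) fun x y => by
    obtain ⟨bx, hx⟩ := (hu x).1
    obtain ⟨bxy, hy⟩ := (hu y).1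
    rw [← map_mul]
    refine (huniq (x * y) (u x * u y) (bx * bxy) ?_).symm
    show (u x : G2) * (u y : G2) = _
    rw [hx, hy, show ((x * y : S) : G0) = (x : G0) * (y : G0) from rfl, map_mul (mapGL e), map_mul scal,
      hk1, hk1]
    rw [mul_assoc (scal bx), ← mul_assoc (k * _ * k⁻¹) (scal bxy), ← FieldAut.scal_comm bxy,
      mul_assoc (scal bxy) (k * _ * k⁻¹), ← mul_assoc (scal bx), mul_assoc (scal bx) (scal bxy),
      show k * mapGL e (x : G0) * k⁻¹ * (k * mapGL e (y : G0) * k⁻¹) =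
        k * (mapGL e (x : G0) * mapGL e (y : G0)) * k⁻¹ by group,
      ← map_mul scal, ← hk1]
    rw [hk1, hk1, ← mul_assoc (scal bx), ← map_mul]
  obtain ⟨E⟩ := AutPSL.centralizer_equiv (uconj : Cfsg.GU (m + 2) F q →* _) (ugam σ B) j
    (fun x => ⟨⟨_, rfl⟩, (hu x).2⟩)
    (fun h hh => by
      obtain ⟨c, hc⟩ := (commute_ugam_iff C _ _).1 hh
      obtain ⟨x₀, b, c₀, hx, hH⟩ := down C D D (h := h) (c := c⁻¹) (by
        rw [hc, smul_smul, Units.inv_mul, one_smul])
      refine ⟨⟨x₀, c₀⁻¹, ?_⟩, (huniq ⟨x₀, c₀⁻¹, ?_⟩ h b hx).symm⟩ <;>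
        (conv_rhs => rw [hH, smul_smul, Units.inv_mul, one_smul]))
  have hker : j.ker = (Geo.scalars (Fin (m + 2)) F₀).subgroupOf S := by
    ext x
    rw [MonoidHom.mem_ker, Subgroup.mem_subgroupOf, Geo.mem_scalars_iff]
    show uconj (u x) = 1 ↔ _
    rw [uconj_eq_one_iff C]
    obtain ⟨b, hb⟩ := (hu x).1
    constructor
    · rintro ⟨z, hz⟩
      have hm' : mapGL e (x : G0) = scal (b⁻¹ * z) := by
        rw [hz] at hb
        calc mapGL e (x : G0) = scal b⁻¹ * (k⁻¹ * (k * (scal b * mapGL e (x : G0)) * k⁻¹) * k) := by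
              rw [show k⁻¹ * (k * (scal b * mapGL e (x : G0)) * k⁻¹) * k = scal b * mapGL e (x : G0) by group,
                ← mul_assoc, ← map_mul, inv_mul_cancel, map_one, one_mul]
          _ = _ := by rw [← hb, ← FieldAut.scal_comm, inv_mul_cancel_right, map_mul]
      have hmat : ((x : G0) : M0).map e = (((b⁻¹ * z : Fˣ) : F)) • (1 : M2) := by
        have := congrArg Units.val hm'
        rwa [FieldAut.scal_coe] at this
      obtain ⟨c, hc, hc'⟩ := smul_fixed C (N := (1 : M0)) one_ne_zero (M := ((x : G0) : M0))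
        (t := ((b⁻¹ * z : Fˣ) : F)) (by rw [hmat, Matrix.map_one _ (map_zero e) (map_one e)])
      have hc0 : c ≠ 0 := fun h0 => (x : G0).det_ne_zero (by rw [hc', h0, zero_smul]; simp)
      exact ⟨Units.mk0 c hc0, hc'⟩
    · rintro ⟨c, hc⟩
      refine ⟨b * Units.map e.toMonoidHom c, ?_⟩
      have hm' : mapGL e (x : G0) = scal (Units.map e.toMonoidHom c) := Units.ext (by
        rw [FieldAut.mapGL_coe, hc, Matrix.map_smul' _ _ _ (fun x y => map_mul e x y),
          Matrix.map_one _ (map_zero e) (map_one e), FieldAut.scal_coe]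
        rfl)
      rw [hb, hm', ← map_mul, ← FieldAut.scal_comm, mul_inv_cancel_right]
  rw [inndiag_eq_range]
  exact ⟨E.trans ((QuotientGroup.quotientMulEquivOfEq hker).trans E0.symm)⟩

end Cfsg.Agent.GraphPSU
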