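import Cfsg.Agent.Lib.FieldAut.Unitary

/-!
# Semilinear automorphisms act faithfully on `PSU_n(q)`, `n ≥ 3`

* `semi_eq_one` : if `conj h ∘ τ` induces the identity with `h ∈ GU`, then `τ = 1`
-/

set_option autoImplicit false
set_option linter.unusedSectionVars false
set_option linter.style.haveILetI false

open scoped MatrixGroups Matrix

namespace Cfsg.Agent.GraphPSU

open Cfsg.Agent.FieldAut (galGL suMat keep indAut)

variable {F : Type*} [Field F] [Fintype F] {n q : ℕ}

/-- A field automorphism fixing the elements of norm one is trivial. -/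
theorem eq_one_of_fix_norm_one (hF : Fintype.card F = q ^ 2) {τ : F ≃+* F}
    (h : ∀ ω : F, ω ^ (q + 1) = 1 → τ ω = ω) : τ = 1 := by
  classical
  haveI : Finite (F ≃+* F) := Finite.of_injective _ DFunLike.coe_injective
  have hr : 0 < orderOf τ := orderOf_pos τ
  by_contra hne
  have hr2 : 2 ≤ orderOf τ := by
    have : orderOf τ ≠ 1 := fun e => hne (orderOf_eq_one_iff.1 e)
    omega
  have hQ := FieldAut.pow_card_fixed τ (rfl : orderOf τ = orderOf τ)
  rw [Nat.card_eq_fintype_card (α := F), hF] at hQ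
  set Q := Nat.card (FieldAut.fixF τ) with hQdef
  let ι : {u : Fˣ // u ^ (q + 1) = 1} → FieldAut.fixF τ := fun u =>
    ⟨(u.1 : F), (FieldAut.mem_fixF τ).2 (h _ (by simpa using congrArg Units.val u.2))⟩
  have hinj : Function.Injective ι := fun a b e => Subtype.ext (Units.ext (congrArg Subtype.val e :))
  have hle : q + 1 ≤ Q := by
    rw [hQdef, ← Unitary.card_units_ker_pow hF (Unitary.q_succ_dvd q)]
    exact Nat.card_le_card_of_injective ι hinj
  have h2 : Q ^ 2 ≤ q ^ 2 := by
    rw [← hQ]
    exact Nat.pow_le_pow_right (by omega) hr2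
  have := (Nat.pow_le_pow_iff_left two_ne_zero).1 h2
  omega

/-- `conj h ∘ τ` acts trivially on `PSU_n(q)` only for `τ = 1`. -/
theorem semi_eq_one (hF : Fintype.card F = q ^ 2) (hn : 3 ≤ n) {h : GL (Fin n) F} {τ : F ≃+* F}
    (hmem : MulAut.conj h * galGL τ ∈ keep (suMat n F q))
    (h1 : indAut FieldAut.suMat_injective ⟨_, hmem⟩ = 1) : τ = 1 := by
  classical
  haveI : Nonempty (Fin n) := ⟨⟨0, by omega⟩⟩
  have hr := FieldAut.suRigid (n := n) hF (by omega)
  obtain ⟨δ, hδ0, hδ⟩ := Unitary.exists_skew hF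
  have hδ' : δ + δ ^ q = 0 := by rw [hδ, add_neg_cancel]
  obtain ⟨a, b, c, ha, hb, hc, hab, hac, hbc⟩ := FieldAut.exists_three_norm_neg_one (q := q) hF
  have key : ∀ i j : Fin n, i ≠ j → ∀ t : F, t ^ (q + 1) = -1 → ∃ l : F,
      (h : Matrix (Fin n) (Fin n) F) *ᵥ (Pi.single i 1 + τ t • Pi.single j 1) =
        l • (Pi.single i 1 + t • Pi.single j 1) := by
    intro i j hij t ht
    set v : Fin n → F := Pi.single i 1 + t • Pi.single j 1 with hv
    have hv0 := FieldAut.isotropic_pair (n := n) hF hij ht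
    set u := Unitary.suTransvection hF v hv0 δ hδ' with hu
    have hfix := FieldAut.indAut_fixes_unipotent hr
      (R := (τ.mapMatrix).trans (FieldAut.conjRing h)) (fun x => rfl) h1
      (FieldAut.unipotent_suTransv hF v hv0 δ hδ')
    rw [← hu] at hfix
    have hfix' : h * galGL τ (suMat n F q u) = suMat n F q u * h := by
      rw [MulAut.mul_apply, MulAut.conj_apply, mul_inv_eq_iff_eq_mul] at hfix
      exact hfix
    set M := Cfsg.unitaryTransvection n q v δ
    have hM : (suMat n F q u : Matrix (Fin n) (Fin n) F) = M := by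
      rw [FieldAut.suMat_coe, hu, Unitary.suTransvection, Unitary.suOfUnitary_val]
    have e1 := congrArg (fun g : GL (Fin n) F => (g : Matrix (Fin n) (Fin n) F) *ᵥ Pi.single i 1) hfix'
    simp only [Units.val_mul, FieldAut.galGL_apply_coe, hM, ← Matrix.mulVec_mulVec] at e1
    have hcol : (M.map τ) *ᵥ Pi.single i 1 = fun k => τ ((M *ᵥ Pi.single i 1) k) := by
      funext k
      simp
    rw [hcol] at e1
    simp only [M, Unitary.transvection_mulVec] at e1
    have hval : Cfsg.hermForm n F q (Pi.single i 1) v = 1 := by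
      rw [Cfsg.hermForm, Finset.sum_eq_single i]
      · simp [hv, hij]
      · intro k _ hk; simp [hk]
      · simp
    have hτv : (fun k => τ (((Pi.single i 1 : Fin n → F) + (δ * Cfsg.hermForm n F q (Pi.single i 1) v) • v) k)) =
        Pi.single i 1 + τ δ • (Pi.single i 1 + τ t • Pi.single j 1 : Fin n → F) := by
      funext k
      rw [hval, hv]
      simp [Pi.single_apply, apply_ite τ]
    rw [hτv, Matrix.mulVec_add, Matrix.mulVec_smul] at e1
    have e2 := add_left_cancel e1
    have hτδ : τ δ ≠ 0 := by simpa using hδ0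
    refine ⟨(τ δ)⁻¹ * (δ * Cfsg.hermForm n F q ((h : Matrix (Fin n) (Fin n) F) *ᵥ Pi.single i 1) v), ?_⟩
    rw [← smul_smul, ← e2, smul_smul, inv_mul_cancel₀ hτδ, one_smul]
  have hentry : ∀ i j : Fin n, i ≠ j → ∀ t : F, t ^ (q + 1) = -1 → ∃ l : F, ∀ k,
      (h : Matrix (Fin n) (Fin n) F) k i + τ t * (h : Matrix (Fin n) (Fin n) F) k j =
        l * (Pi.single i 1 + t • Pi.single j 1 : Fin n → F) k := by
    intro i j hij t ht
    obtain ⟨l, hl⟩ := key i j hij t ht
    refine ⟨l, fun k => ?_⟩
    have := congrFun hl k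
    rw [Matrix.mulVec_add, Matrix.mulVec_smul, Matrix.mulVec_single_one, Matrix.mulVec_single_one] at this
    simpa using this
  have hoff : ∀ k i : Fin n, k ≠ i → (h : Matrix (Fin n) (Fin n) F) k i = 0 := by
    intro k i hki
    obtain ⟨j, hjk, hji⟩ : ∃ j : Fin n, j ≠ k ∧ j ≠ i := by
      by_contra! hall
      have hsub : (Finset.univ : Finset (Fin n)) ⊆ {k, i} := fun x _ => by
        rw [Finset.mem_insert, Finset.mem_singleton]
        by_cases hx : x = k
        · exact Or.inl hx
        · exact Or.inr (hall x hx)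
      have := Finset.card_le_card hsub
      rw [Finset.card_univ, Fintype.card_fin] at this
      have := Finset.card_insert_le k ({i} : Finset (Fin n))
      rw [Finset.card_singleton] at this
      omega
    obtain ⟨l, hl⟩ := hentry i j hji.symm a ha
    obtain ⟨l', hl'⟩ := hentry i j hji.symm b hb
    have h1' := hl k
    have h2' := hl' k
    simp [hki, hjk.symm] at h1' h2'
    have h3 : (h : Matrix (Fin n) (Fin n) F) k j * (τ a - τ b) = 0 := by linear_combination h1' - h2'
    have h4 := (mul_eq_zero.1 h3).resolve_right (sub_ne_zero.2 fun e => hab (τ.injective e))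
    rw [h4, mul_zero, add_zero] at h1'
    exact h1'
  apply eq_one_of_fix_norm_one hF
  intro ω hω
  let i : Fin n := ⟨0, by omega⟩
  let j : Fin n := ⟨1, by omega⟩
  have hij : i ≠ j := by simp [i, j, Fin.ext_iff]
  have hrel : ∀ t : F, t ^ (q + 1) = -1 →
      τ t * (h : Matrix (Fin n) (Fin n) F) j j = (h : Matrix (Fin n) (Fin n) F) i i * t := by
    intro t ht
    obtain ⟨l, hl⟩ := hentry i j hij t ht
    have hi := hl i
    have hj := hl j
    simp [hij, hij.symm, hoff i j hij, hoff j i hij.symm] at hi hj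
    rw [hi]; exact hj
  have hjj : (h : Matrix (Fin n) (Fin n) F) j j ≠ 0 := by
    intro h0
    refine h.det_ne_zero (Matrix.det_eq_zero_of_column_eq_zero j fun k => ?_)
    rcases eq_or_ne k j with rfl | hk
    · exact h0
    · exact hoff k j hk
  have r1 := hrel a ha
  have r2 := hrel (a * ω) (by rw [mul_pow, ha, hω, mul_one])
  rw [map_mul] at r2
  have ha0 : a ≠ 0 := fun e => by rw [e, zero_pow (Nat.succ_ne_zero q)] at ha; simp at ha
  have : τ a * (h : Matrix (Fin n) (Fin n) F) j j * (τ ω - ω) = 0 := by linear_combination r2 - ω * r1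
  exact sub_eq_zero.1 ((mul_eq_zero.1 this).resolve_left (mul_ne_zero (by simpa using ha0) hjj))

end Cfsg.Agent.GraphPSU
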