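import Cfsg.Agent.Lib.GraphPSU.Desc
import Cfsg.Agent.Lib.AutPSL.GraphSplit

/-!
# Splitting of the classes of involutory graph automorphisms of `PSU_n(q)`

* `split_small`, `split_skew`, `split_symm` : `gcd(n, q+1)`, `gcd(n/2, q+1)`, `gcd(n, q+1)/2`
-/

set_option autoImplicit false
set_option linter.unusedSectionVars false
set_option linter.style.haveILetI false

open scoped MatrixGroups Matrix

namespace Cfsg.Agent.GraphPSU

open Cfsg.Agent.FieldAut (scal galGL mapGL suMat)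
open Cfsg.Agent.AutPSL (simGrp)

variable {F : Type*} [Field F] [Fintype F] {F₀ : Type*} [Field F₀] [Fintype F₀] {m q : ℕ}
  {σ : F ≃+* F} {e : F₀ →+* F}

local notation "G2" => GL (Fin (m + 2)) F
local notation "M2" => Matrix (Fin (m + 2)) (Fin (m + 2)) F
local notation "G0" => GL (Fin (m + 2)) F₀
local notation "M0" => Matrix (Fin (m + 2)) (Fin (m + 2)) F₀

/-- The elements of norm one. -/
abbrev normOne (F : Type*) [Field F] (q : ℕ) : Subgroup Fˣ := (powMonoidHom (q + 1) : Fˣ →* Fˣ).ker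

/-- The determinant on `GU`, in the elements of norm one. -/
noncomputable def udet (C : Ctx q σ e) : Cfsg.GU (m + 2) F q →* normOne F q :=
  (Unitary.detHom (m + 2) F q).codRestrict _ fun g =>
    (Unitary.detHom_range C.card (by omega)).le ⟨g, rfl⟩

/-- The elements of `GU` whose class commutes with `ugam σ B`, and their determinants. -/
noncomputable def detSim (C : Ctx q σ e) (B : Cfsg.GU (m + 2) F q) : Subgroup (normOne F q) :=
  ((simGrp ((B : G2) : M2)).comap (Cfsg.GU (m + 2) F q).subtype).map (udet C)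

theorem mem_normOne_of_scal (C : Ctx q σ e) {a : Fˣ} (ha : (scal a : G2) ∈ Cfsg.GU (m + 2) F q) :
    a ∈ normOne F q := by
  rw [FieldAut.mem_GU_iff_matrix C.card, FieldAut.scal_coe] at ha
  have h1 := congrFun (congrFun ha 0) 0
  refine MonoidHom.mem_ker.2 (Units.ext ?_)
  rw [powMonoidHom_apply, Units.val_pow_eq_pow_val, Units.val_one, pow_succ']
  rw [FieldAut.smul_one_map_conj C.card, Matrix.transpose_smul, Matrix.transpose_one, Matrix.smul_mul,
    Matrix.one_mul, smul_smul, Matrix.smul_apply, Matrix.one_apply_eq, smul_eq_mul, mul_one] at h1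
  exact h1

theorem card_normOne (C : Ctx q σ e) : Nat.card (normOne F q) = q + 1 := by
  rw [IsCyclic.card_powMonoidHom_ker, Unitary.card_units C.card,
    Nat.gcd_eq_right (Unitary.q_succ_dvd q)]

theorem index_powRange (C : Ctx q σ e) (n : ℕ) :
    (powMonoidHom n : normOne F q →* normOne F q).range.index = Nat.gcd n (q + 1) := by
  have h := FieldAut.index_pow_sup (⊥ : Subgroup (normOne F q)) n
  rwa [sup_bot_eq, Subgroup.index_bot, card_normOne C, Nat.gcd_comm] at h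

theorem split_eq_det (C : Ctx q σ e) (B : Cfsg.GU (m + 2) F q) :
    Cfsg.splitClassCount (Cfsg.inndiagPSU (m + 2) F q) (Cfsg.Inn (Cfsg.PSU (m + 2) F q)) (ugam σ B) =
      (detSim C B ⊔ (powMonoidHom (m + 2) : normOne F q →* normOne F q).range).index := by
  set P := (powMonoidHom (m + 2) : normOne F q →* normOne F q).range
  set χ := (QuotientGroup.mk' P).comp (udet (m := m) C)
  have hr := FieldAut.suRigid (n := m + 2) C.card (by omega)
  have hχ : Function.Surjective χ := by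
    intro y
    obtain ⟨u, rfl⟩ := QuotientGroup.mk_surjective y
    obtain ⟨g, hg⟩ := (Unitary.detHom_range C.card (show 1 ≤ m + 2 by omega)).ge u.2
    exact ⟨g, congrArg QuotientGroup.mk (Subtype.ext hg : udet C g = u)⟩
  have hK : Cfsg.Inn (Cfsg.PSU (m + 2) F q) ≤ (uconj : Cfsg.GU (m + 2) F q →* _).range :=
    FieldAut.inn_le_range _ _ _ FieldAut.suMat_mem
  have hdet : ∀ (a : Fˣ) (g : Cfsg.GU (m + 2) F q) (s : Cfsg.SU (m + 2) F q),
      (g : G2) = scal a * suMat (m + 2) F q s → Unitary.detHom (m + 2) F q g = a ^ (m + 2) := by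
    intro a g s h
    apply Units.ext
    show ((g : G2) : M2).det = _
    rw [h, Units.val_mul, FieldAut.scal_coe, Matrix.smul_mul, one_mul, Matrix.det_smul, Fintype.card_fin,
      FieldAut.suMat_coe, s.1.2, mul_one, Units.val_pow_eq_pow_val]
  have hker : ∀ g, χ g = 1 ↔ uconj g ∈ Cfsg.Inn (Cfsg.PSU (m + 2) F q) := by
    intro g
    rw [show χ g = QuotientGroup.mk (udet C g) from rfl, QuotientGroup.eq_one_iff, uconj,
      FieldAut.conjAut_mem_inn_iff hr _ _ FieldAut.suMat_mem]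
    constructor
    · rintro ⟨a, ha⟩
      have hag : (a : Fˣ) ^ (m + 2) = Unitary.detHom (m + 2) F q g := congrArg Subtype.val ha
      have ha' : (scal (a : Fˣ)⁻¹ : G2) * (g : G2) ∈ (suMat (m + 2) F q).range := by
        refine FieldAut.mem_suMat_range.2 ⟨mul_mem (FieldAut.scal_mem_GU C.card _ ?_) g.2, ?_⟩
        · rw [inv_pow, show (a : Fˣ) ^ (q + 1) = 1 from MonoidHom.mem_ker.1 a.2, inv_one]
        · rw [Units.val_mul, FieldAut.scal_coe, smul_mul_assoc, one_mul, Matrix.det_smul, Fintype.card_fin]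
          have h1 : ((g : G2) : M2).det = ((Unitary.detHom (m + 2) F q g : Fˣ) : F) := rfl
          rw [h1, ← hag, ← Units.val_pow_eq_pow_val, ← Units.val_mul, inv_pow, inv_mul_cancel, Units.val_one]
      obtain ⟨h, hh⟩ := ha'
      exact ⟨(a : Fˣ), h, by rw [hh, ← mul_assoc, ← map_mul, mul_inv_cancel, map_one, one_mul]⟩
    · rintro ⟨a, h, hgh⟩
      have hscal : (scal a : G2) ∈ Cfsg.GU (m + 2) F q :=
        (Subgroup.mul_mem_cancel_right _ (FieldAut.suMat_mem h)).1 (hgh ▸ g.2)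
      exact ⟨⟨a, mem_normOne_of_scal C hscal⟩, Subtype.ext (hdet a g h hgh).symm⟩
  rw [inndiag_eq_range, AutPSL.split_eq_index uconj _ (ugam σ B) χ hχ hK hker]
  have h1 : (Subgroup.centralizer {ugam σ B}).comap (uconj : Cfsg.GU (m + 2) F q →* _) =
      (simGrp ((B : G2) : M2)).comap (Cfsg.GU (m + 2) F q).subtype := by
    ext h
    rw [Subgroup.mem_comap, Subgroup.mem_centralizer_singleton_iff, Subgroup.mem_comap,
      show ((Cfsg.GU (m + 2) F q).subtype h) = (h : G2) from rfl, ← commute_ugam_iff C]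
    exact Iff.rfl
  rw [h1, ← Subgroup.map_map, Subgroup.index_map, QuotientGroup.ker_mk',
    MonoidHom.range_eq_top.2 (QuotientGroup.mk'_surjective _), Subgroup.index_top, mul_one]
  rfl

theorem exists_multiplier_mem (C : Ctx q σ e) {B : Cfsg.GU (m + 2) F q} {g : Cfsg.GU (m + 2) F q} {c : Fˣ}
    (hc : ((g : G2) : M2)ᵀ * ((B : G2) : M2) * ((g : G2) : M2) = (c : F) • ((B : G2) : M2)) :
    c ∈ normOne F q := by
  have h : ((galU σ g)⁻¹ * B * g * B⁻¹ : Cfsg.GU (m + 2) F q).1 = (scal c : G2) := by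
    show ((galU σ g : Cfsg.GU (m + 2) F q) : G2)⁻¹ * (B : G2) * (g : G2) * (B : G2)⁻¹ = scal c
    rw [galU_coe C, mul_inv_eq_iff_eq_mul]
    refine Units.ext ?_
    rw [Units.val_mul, Units.val_mul, Units.val_mul, FieldAut.scal_coe, Matrix.smul_mul, one_mul]
    exact hc
  exact mem_normOne_of_scal C (h ▸ Subtype.property _)

theorem udet_sq (C : Ctx q σ e) {B : Cfsg.GU (m + 2) F q} {g : Cfsg.GU (m + 2) F q} {c : Fˣ}
    (hc : ((g : G2) : M2)ᵀ * ((B : G2) : M2) * ((g : G2) : M2) = (c : F) • ((B : G2) : M2)) :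
    udet C g * udet C g = ⟨c, exists_multiplier_mem C hc⟩ ^ (m + 2) :=
  Subtype.ext (Units.ext (by
    show ((g : G2) : M2).det * ((g : G2) : M2).det = ((c ^ (m + 2) : Fˣ) : F)
    rw [Units.val_pow_eq_pow_val]
    exact AutPSL.det_sq_of_sim hc))

theorem sq_inj_two [CharP F 2] {u v : normOne F q} (h : u * u = v * v) : u = v := by
  have h' : ((u : Fˣ) : F) * ((u : Fˣ) : F) = ((v : Fˣ) : F) * ((v : Fˣ) : F) :=
    congrArg (fun x : normOne F q => ((x : Fˣ) : F)) h
  refine Subtype.ext (Units.ext ?_)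
  rcases mul_self_eq_mul_self_iff.1 h' with h | h
  · exact h
  · rw [h, CharTwo.neg_eq]

theorem split_small (C : Ctx q σ e) (B : Cfsg.GU (m + 2) F q) (h : Odd (m + 2) ∨ CharP F 2) :
    Cfsg.splitClassCount (Cfsg.inndiagPSU (m + 2) F q) (Cfsg.Inn (Cfsg.PSU (m + 2) F q)) (ugam σ B) =
      Nat.gcd (m + 2) (q + 1) := by
  rw [split_eq_det C, sup_eq_right.2 ?_, index_powRange C]
  rintro _ ⟨g, ⟨c, hc⟩, rfl⟩
  have hd := udet_sq C (g := g) hc
  set u := udet C g
  set w : normOne F q := ⟨c, exists_multiplier_mem C (g := g) hc⟩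
  rcases h with h | h
  · obtain ⟨r, hr⟩ := h
    set d := u * (w ^ r)⁻¹
    have hd2 : d * d = w := by
      rw [mul_mul_mul_comm, hd, hr, ← mul_inv, ← pow_add, ← two_mul, pow_succ, mul_inv_cancel_comm]
    refine ⟨d, ?_⟩
    rw [powMonoidHom_apply, hr, pow_succ, pow_mul, pow_two, hd2]
    show w ^ r * (u * (w ^ r)⁻¹) = u
    rw [mul_comm u, mul_inv_cancel_left]
  · haveI := h
    have hinj : Function.Injective (fun x : normOne F q => x * x) := fun _ _ h => sq_inj_two h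
    obtain ⟨d, hd'⟩ := (Finite.injective_iff_bijective.1 hinj).2 w
    refine ⟨d, sq_inj_two ?_⟩
    rw [powMonoidHom_apply, hd, ← mul_pow]
    exact congrArg (· ^ (m + 2)) hd'

theorem two_ne_zero' (C : Ctx q σ e) (h2 : (2 : F₀) ≠ 0) : (2 : F) ≠ 0 := by
  have := C.card
  intro h
  exact h2 (e.injective (by rw [map_ofNat, map_zero, h]))

theorem exists_multiplier (C : Ctx q σ e) (h2 : (2 : F₀) ≠ 0) {k : ℕ} (hk : m + 2 = 2 * k)
    {B : Cfsg.GU (m + 2) F q}
    (hB : ((B : G2) : M2)ᵀ = ((B : G2) : M2) ∨ ((B : G2) : M2)ᵀ = -((B : G2) : M2)) (w : normOne F q) :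
    ∃ g : Cfsg.GU (m + 2) F q,
      ((g : G2) : M2)ᵀ * ((B : G2) : M2) * ((g : G2) : M2) = ((w : Fˣ) : F) • ((B : G2) : M2) := by
  obtain ⟨H, ⟨kk, a, d, D⟩, hH⟩ := exists_desc C hB
  have hN : FieldAut.normU σ 2 (w : Fˣ) = 1 := by
    refine Units.ext ?_
    have h1 : ((w : Fˣ) : F) * σ ((w : Fˣ) : F) = 1 := by
      rw [C.spow, ← pow_succ']
      simpa using congrArg Units.val (MonoidHom.mem_ker.1 w.2)
    simpa [FieldAut.normU, Finset.prod_range_succ] using h1
  obtain ⟨b, hb⟩ := FieldAut.exists_units_eq_twist C.ord two_pos hN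
  obtain ⟨c₀, hc₀⟩ := (C.range ((b : F) * σ (b : F))).2 (by rw [map_mul, C.invol, mul_comm])
  have hc0 : c₀ ≠ 0 := fun h0 => by
    rw [h0, map_zero] at hc₀
    exact mul_ne_zero b.ne_zero (by simp) hc₀.symm
  obtain ⟨x₀, hx₀⟩ : ∃ x₀ : G0, (x₀ : M0)ᵀ * (H : M0) * (x₀ : M0) =
      (((Units.mk0 c₀ hc0)⁻¹ : F₀ˣ) : F₀) • (H : M0) := by
    rcases hH with h | h
    · exact AutPSL.exists_multiplier_symm h2 hk h _
    · obtain ⟨x, hx, -⟩ := AutPSL.exists_multiplier_skew h2 hk h (Units.mk0 c₀ hc0)⁻¹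
      exact ⟨x, hx⟩
  obtain ⟨g, -, hg⟩ := up_core C D D x₀ (c₀ := c₀) (by
    rw [hx₀, smul_smul, Units.val_inv_eq_inv_val, Units.val_mk0, mul_inv_cancel₀ hc0, one_smul]) b
    (by rw [hc₀])
  refine ⟨g, hg.trans ?_⟩
  congr 1
  rw [mul_div_assoc, div_self a.ne_zero, mul_one, hb]
  push_cast
  rw [div_eq_mul_inv]
  rfl

theorem exists_det_neg (C : Ctx q σ e) (h2 : (2 : F₀) ≠ 0) {B : Cfsg.GU (m + 2) F q}
    (hB : ((B : G2) : M2)ᵀ = ((B : G2) : M2)) :
    ∃ g : Cfsg.GU (m + 2) F q,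
      ((g : G2) : M2)ᵀ * ((B : G2) : M2) * ((g : G2) : M2) = ((1 : Fˣ) : F) • ((B : G2) : M2) ∧
        ((g : G2) : M2).det = -1 := by
  obtain ⟨H, D', hH⟩ := exists_desc C (Or.inl hB)
  have hs : (H : M0)ᵀ = (H : M0) := by
    have := (desc_type C D' 1).1 (by rw [map_one, one_smul]; exact hB)
    rwa [one_smul] at this
  obtain ⟨kk, a, d, D⟩ := D'
  obtain ⟨x₀, hx₀, hdx⟩ := AutPSL.exists_det_neg h2 hs
  obtain ⟨g, hgv, hg⟩ := up_core C D D x₀ (c₀ := 1) (by rw [hx₀, one_smul]) 1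
    (by simp)
  refine ⟨g, hg.trans ?_, ?_⟩
  · congr 1
    simp
  · rw [hgv, map_one, one_mul, Units.val_mul, Units.val_mul, Matrix.det_mul, Matrix.det_mul,
      FieldAut.mapGL_coe, ← RingHom.mapMatrix_apply, ← RingHom.map_det, hdx, map_neg, map_one, mul_neg,
      mul_one, neg_mul, ← Matrix.det_mul, Units.mul_inv, Matrix.det_one]

theorem split_skew (C : Ctx q σ e) (h2 : (2 : F₀) ≠ 0) {k : ℕ} (hk : m + 2 = 2 * k)
    {B : Cfsg.GU (m + 2) F q} (hB : ((B : G2) : M2)ᵀ = -((B : G2) : M2)) :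
    Cfsg.splitClassCount (Cfsg.inndiagPSU (m + 2) F q) (Cfsg.Inn (Cfsg.PSU (m + 2) F q)) (ugam σ B) =
      Nat.gcd k (q + 1) := by
  rw [split_eq_det C]
  have hF2 := two_ne_zero' C h2
  have hdet : ∀ (g : Cfsg.GU (m + 2) F q) (c : Fˣ),
      ((g : G2) : M2)ᵀ * ((B : G2) : M2) * ((g : G2) : M2) = (c : F) • ((B : G2) : M2) →
      ((g : G2) : M2).det = (c : F) ^ k := fun g c hc =>
    OrthOuter.alt_similitude_det _ (AutPSL.alt_of_skew hF2 hB) (B : G2).det_ne_zero
      (by rw [Fintype.card_fin, hk]) c.ne_zero hc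
  have hmap : detSim C B = (powMonoidHom k : normOne F q →* normOne F q).range := by
    apply le_antisymm
    · rintro _ ⟨g, ⟨c, hc⟩, rfl⟩
      exact ⟨⟨c, exists_multiplier_mem C (g := g) hc⟩, Subtype.ext (Units.ext (by
        show ((c ^ k : Fˣ) : F) = ((g : G2) : M2).det
        rw [Units.val_pow_eq_pow_val, hdet g c hc]))⟩
    · rintro _ ⟨w, rfl⟩
      obtain ⟨g, hg⟩ := exists_multiplier C h2 hk (Or.inr hB) w
      exact ⟨g, ⟨(w : Fˣ), hg⟩, Subtype.ext (Units.ext (by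
        show ((g : G2) : M2).det = (((w : Fˣ) ^ k : Fˣ) : F)
        rw [Units.val_pow_eq_pow_val, hdet g _ hg]))⟩
  rw [hmap, sup_eq_left.2 ?_, index_powRange C]
  rintro _ ⟨d, rfl⟩
  exact ⟨d ^ 2, by rw [powMonoidHom_apply, powMonoidHom_apply, ← pow_mul, ← hk]⟩

theorem split_symm (C : Ctx q σ e) (h2 : (2 : F₀) ≠ 0) (hq : Odd q) {k : ℕ} (hk : m + 2 = 2 * k)
    {B : Cfsg.GU (m + 2) F q} (hB : ((B : G2) : M2)ᵀ = ((B : G2) : M2)) :
    Cfsg.splitClassCount (Cfsg.inndiagPSU (m + 2) F q) (Cfsg.Inn (Cfsg.PSU (m + 2) F q)) (ugam σ B) =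
      Nat.gcd (m + 2) (q + 1) / 2 := by
  rw [split_eq_det C]
  set P := (powMonoidHom (m + 2) : normOne F q →* normOne F q).range with hP
  have hsup : detSim C B ⊔ P = P.comap (powMonoidHom 2 : normOne F q →* normOne F q) := by
    apply le_antisymm
    · refine sup_le ?_ fun x hx => ?_
      · rintro _ ⟨g, ⟨c, hc⟩, rfl⟩
        refine ⟨⟨c, exists_multiplier_mem C (g := g) hc⟩, ?_⟩
        rw [powMonoidHom_apply, powMonoidHom_apply, pow_two, udet_sq C (g := g) hc]
      · rw [Subgroup.mem_comap, powMonoidHom_apply]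
        exact P.pow_mem hx 2
    · intro x hx
      obtain ⟨a, ha⟩ := hx
      obtain ⟨g, hg⟩ := exists_multiplier C h2 hk (Or.inl hB) a
      obtain ⟨r, hr, hrd⟩ := exists_det_neg C h2 hB
      have hg' : udet C g ∈ detSim C B := ⟨g, ⟨(a : Fˣ), hg⟩, rfl⟩
      have hneg : udet C r ∈ detSim C B := ⟨r, ⟨1, hr⟩, rfl⟩
      have hu : udet C g * udet C g = x * x := by
        rw [udet_sq C (g := g) hg, ← pow_two x]
        exact ha
      have hu' : ((udet C g : Fˣ) : F) * ((udet C g : Fˣ) : F) = ((x : Fˣ) : F) * ((x : Fˣ) : F) :=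
        congrArg (fun y : normOne F q => ((y : Fˣ) : F)) hu
      rcases mul_self_eq_mul_self_iff.1 hu' with h | h
      · rw [show x = udet C g from Subtype.ext (Units.ext h.symm)]
        exact Subgroup.mem_sup_left hg'
      · rw [show x = udet C r * udet C g from Subtype.ext (Units.ext (by
          show ((x : Fˣ) : F) = ((udet C r : Fˣ) : F) * ((udet C g : Fˣ) : F)
          rw [show ((udet C r : Fˣ) : F) = ((r : G2) : M2).det from rfl, hrd, h]; ring))]
        exact Subgroup.mem_sup_left (mul_mem hneg hg')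
  have hle : P ≤ (powMonoidHom 2 : normOne F q →* normOne F q).range := by
    rintro _ ⟨a, rfl⟩
    exact ⟨a ^ k, by rw [powMonoidHom_apply, powMonoidHom_apply, ← pow_mul, mul_comm k, ← hk]⟩
  have h := Subgroup.relIndex_mul_index hle
  rw [← Subgroup.index_comap, ← hsup, index_powRange C, hP, index_powRange C] at h
  have h2q : Nat.gcd 2 (q + 1) = 2 := Nat.gcd_eq_left (even_iff_two_dvd.1 hq.add_one)
  rw [h2q] at h
  rw [← h, Nat.mul_div_cancel _ two_pos]

end Cfsg.Agent.GraphPSU
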